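import Mathlib
import Groth.Agent.Lib.Helper4.FibreStalkDim1
import Groth.Agent.Lib.Helper7.QuasiFlat.IrredComp

set_option linter.style.haveILetI false
set_option linter.unusedVariables false
set_option linter.unusedSectionVars false
set_option autoImplicit false
set_option backward.isDefEq.respectTransparency.types false
set_option synthInstance.maxHeartbeats 400000
set_option maxHeartbeats 1600000

universe u

/-! helper7: the fibre of a reduced scheme over a maximal point of the base is reduced; the fibre
of the closure of a point over a maximal point is integral. -/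

open CategoryTheory CategoryTheory.Limits AlgebraicGeometry TopologicalSpace

namespace Groth.Agent.Helper7.FibMax

/-- the maximal ideal of the local ring at a point without proper generizations is a nil ideal. -/
theorem isNilpotent_of_mem_maximalIdeal_of_maximal {S : Scheme.{u}} (y : S)
    (hy : ∀ t : S, t ⤳ y → t = y) (a : S.presheaf.stalk y)
    (ha : a ∈ IsLocalRing.maximalIdeal (S.presheaf.stalk y)) : IsNilpotent a := by
  have hsub : ∀ w : Spec (S.presheaf.stalk y), S.fromSpecStalk y w = y := fun w => by
    apply hy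
    have hw : S.fromSpecStalk y w ∈ Set.range (S.fromSpecStalk y) := ⟨w, rfl⟩
    rw [Scheme.range_fromSpecStalk] at hw
    exact hw
  have hss : ∀ x x' : Spec (S.presheaf.stalk y), x = x' := fun x x' =>
    (S.fromSpecStalk y).isEmbedding.injective ((hsub x).trans (hsub x').symm)
  rw [← mem_nilradical, nilradical_eq_sInf, Ideal.mem_sInf]
  intro J hJ
  have hJ' : J.IsPrime := hJ
  have hpt : (PrimeSpectrum.mk J hJ' : PrimeSpectrum (S.presheaf.stalk y)) =
      PrimeSpectrum.mk (IsLocalRing.maximalIdeal (S.presheaf.stalk y)) inferInstance :=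
    hss _ _
  have hJm : J = IsLocalRing.maximalIdeal (S.presheaf.stalk y) :=
    congrArg PrimeSpectrum.asIdeal hpt
  rw [hJm]
  exact ha

theorem map_maximalIdeal_eq_bot {Z S : Scheme.{u}} [IsReduced Z] (h : Z ⟶ S) (x : Z)
    (hy : ∀ t : S, t ⤳ h x → t = h x) :
    (IsLocalRing.maximalIdeal (S.presheaf.stalk (h x))).map (h.stalkMap x).hom = ⊥ := by
  rw [eq_bot_iff, Ideal.map_le_iff_le_comap]
  intro a ha
  have hn := isNilpotent_of_mem_maximalIdeal_of_maximal (h x) hy a ha
  have hn' : IsNilpotent ((h.stalkMap x).hom a) := hn.map _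
  rw [Ideal.mem_comap, Ideal.mem_bot]
  exact hn'.eq_zero

/-- the fibre of a reduced scheme over a point without proper generizations is reduced. -/
theorem isReduced_fiber_of_maximal {Z S : Scheme.{u}} [IsReduced Z] (h : Z ⟶ S) (η : S)
    (hη : ∀ t : S, t ⤳ η → t = η) : IsReduced (h.fiber η) := by
  haveI : ∀ w : h.fiber η, _root_.IsReduced ((h.fiber η).presheaf.stalk w) := by
    intro w
    have hpt : h (h.fiberι η w) = η := by
      have hw : h.fiberι η w ∈ Set.range (h.fiberι η) := ⟨w, rfl⟩
      rw [h.range_fiberι η] at hw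
      exact hw
    have hmax : ∀ t : S, t ⤳ h (h.fiberι η w) → t = h (h.fiberι η w) := by
      rw [hpt]
      exact hη
    have hker := Groth.Agent.Lib.Helper4.FibreStalkDim1.ker_stalkMap_fiberι_le h η w
    rw [map_maximalIdeal_eq_bot h _ hmax] at hker
    have hinj : Function.Injective ((h.fiberι η).stalkMap w).hom :=
      (RingHom.injective_iff_ker_eq_bot _).mpr (le_bot_iff.mp hker)
    have hsurj : Function.Surjective ((h.fiberι η).stalkMap w).hom :=
      (h.fiberι η).stalkMap_surjective w
    exact isReduced_of_injective (RingEquiv.ofBijective ((h.fiberι η).stalkMap w).hom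
      ⟨hinj, hsurj⟩).symm (RingEquiv.ofBijective ((h.fiberι η).stalkMap w).hom
      ⟨hinj, hsurj⟩).symm.injective
  exact isReduced_of_isReduced_stalk _

/-- the fibre through a dense point is irreducible. -/
theorem irreducibleSpace_fiber_of_dense_point {Z S : Scheme.{u}} (h : Z ⟶ S) (η : S) (z₀ : Z)
    (hz₀ : closure {z₀} = Set.univ) (hη : h z₀ = η) : IrreducibleSpace (h.fiber η) := by
  have hmem : z₀ ∈ Set.range (h.fiberι η) := by
    rw [h.range_fiberι η]
    exact hη
  obtain ⟨w₀, hw₀⟩ := hmem
  have hcl : closure {w₀} = Set.univ := by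
    rw [(h.fiberι η).isEmbedding.closure_eq_preimage_closure_image {w₀}, Set.image_singleton,
      hw₀, hz₀, Set.preimage_univ]
  rw [irreducibleSpace_def, Set.top_eq_univ, ← hcl]
  exact isIrreducible_singleton.closure

theorem main {X S Z : Scheme.{u}} (f : X ⟶ S) (z : X)
    (hz : closure {f z} ∈ irreducibleComponents ↥S) (ι : Z ⟶ X) [IsClosedImmersion ι]
    [IsReduced Z] (hZ : Set.range ι = closure {z}) :
    IsIntegral (pullback (ι ≫ f) (S.fromSpecResidueField (f z))) ∧
      ∃ w : ↥(pullback f (S.fromSpecResidueField (f z))),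
        pullback.fst f (S.fromSpecResidueField (f z)) w = z ∧
        Set.range (pullback.map (ι ≫ f) (S.fromSpecResidueField (f z)) f
          (S.fromSpecResidueField (f z)) ι (𝟙 _) (𝟙 S) (Category.comp_id _)
          ((Category.comp_id _).trans (Category.id_comp _).symm)) = closure {w} := by
  have hη : ∀ t : S, t ⤳ f z → t = f z := fun t ht =>
    Groth.Agent.Helper7.QuasiFlat.eq_of_specializes_of_closure_mem_irreducibleComponents hz ht
  obtain ⟨z₀, hz₀⟩ : z ∈ Set.range ι := by
    rw [hZ]
    exact subset_closure rfl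
  have hdense : closure {z₀} = Set.univ := by
    rw [ι.isEmbedding.closure_eq_preimage_closure_image {z₀}, Set.image_singleton, hz₀, ← hZ]
    exact Set.preimage_range _
  refine ⟨?_, f.asFiber z, f.fiberι_asFiber z, ?_⟩
  · rw [isIntegral_iff_irreducibleSpace_and_isReduced]
    refine ⟨irreducibleSpace_fiber_of_dense_point (ι ≫ f) (f z) z₀ hdense ?_,
      isReduced_fiber_of_maximal (ι ≫ f) (f z) hη⟩
    rw [Scheme.Hom.comp_apply, hz₀]
  · rw [Scheme.Pullback.range_map, hZ]
    have h1 : Set.range (𝟙 (Spec (S.residueField (f z)))) = Set.univ :=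
      Set.range_eq_univ.mpr (fun x => ⟨x, rfl⟩)
    rw [h1, Set.preimage_univ, Set.inter_univ]
    have h2 := (f.fiberι (f z)).isEmbedding.closure_eq_preimage_closure_image {f.asFiber z}
    rw [Set.image_singleton, f.fiberι_asFiber z] at h2
    exact h2.symm

end Groth.Agent.Helper7.FibMax
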